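import Cfsg.Agent.H624.Sl.Defs

/-!
# S4536: the homomorphism `jj : GL_k(K) × GL_m(F) → GL_n(F)` (helper901, LA3, LA4, LA5)
-/

set_option autoImplicit false
set_option linter.unusedSectionVars false

open Cfsg Polynomial
open scoped MatrixGroups

namespace Cfsg.Agent.H901.Sl

open Cfsg.Agent.H624.Sl

universe u

variable {F : Type u} [Field F] [Finite F] {K : Type u} [Field K] [Finite K] [Algebra F K] {k m n : ℕ}

theorem ext_mulVec {A B : GL (Fin n) F} (h : ∀ v : Fin n → F, A.1.mulVec v = B.1.mulVec v) : A = B := by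
  apply Units.ext
  apply Matrix.ext_of_mulVec_single
  intro i
  exact h _

theorem jj_injective (e : ((Fin k → K) × (Fin m → F)) ≃ₗ[F] (Fin n → F)) : Function.Injective (jj e) := by
  rintro ⟨A, B⟩ ⟨A', B'⟩ h
  have h1 : ∀ (v : Fin k → K) (w : Fin m → F), (A.1.mulVec v, B.1.mulVec w) = (A'.1.mulVec v, B'.1.mulVec w) := by
    intro v w
    apply e.injective
    rw [← jj_mulVec, ← jj_mulVec, h]
  refine Prod.ext ?_ ?_
  · exact ext_mulVec fun v => congrArg Prod.fst (h1 v 0)
  · exact ext_mulVec fun w => congrArg Prod.snd (h1 0 w)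

/-- the linear map of `jj e (A, B)` -/
theorem toLin_jj (e : ((Fin k → K) × (Fin m → F)) ≃ₗ[F] (Fin n → F)) (A : GL (Fin k) K) (B : GL (Fin m) F) :
    Matrix.toLin' (jj e (A, B)).1 = (e : _ →ₗ[F] _) ∘ₗ
      (((Matrix.toLin' A.1).restrictScalars F).prodMap (Matrix.toLin' B.1)) ∘ₗ (e.symm : _ →ₗ[F] _) := by
  refine LinearMap.ext fun x => ?_
  obtain ⟨⟨v, w⟩, rfl⟩ := e.surjective x
  rw [Matrix.toLin'_apply, jj_mulVec]
  show _ = e (((Matrix.toLin' A.1).restrictScalars F).prodMap (Matrix.toLin' B.1) (e.symm (e (v, w))))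
  rw [e.symm_apply_apply]
  rfl

theorem det_jj (e : ((Fin k → K) × (Fin m → F)) ≃ₗ[F] (Fin n → F)) (A : GL (Fin k) K)
    (B : GL (Fin m) F) : Matrix.GeneralLinearGroup.det (jj e (A, B)) =
      nrm F K (Matrix.GeneralLinearGroup.det A) * Matrix.GeneralLinearGroup.det B := by
  apply Units.ext
  show (jj e (A, B)).1.det = Algebra.norm F A.1.det * B.1.det
  rw [← LinearMap.det_toLin', toLin_jj, LinearMap.det_conj, LinearMap.det_prodMap, LinearMap.det_restrictScalars,
    LinearMap.det_toLin', LinearMap.det_toLin']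

/-- restriction of scalars of endomorphisms -/
def resE (V : Type*) [AddCommGroup V] [Module K V] [Module F V] [IsScalarTower F K V] :
    Module.End K V →ₐ[F] Module.End F V where
  toFun f := f.restrictScalars F
  map_one' := rfl
  map_mul' _ _ := rfl
  map_zero' := rfl
  map_add' _ _ := rfl
  commutes' r := by
    ext v
    show (algebraMap F (Module.End K V) r) v = r • v
    rw [Module.algebraMap_end_apply]

theorem finrank_ker_prod {V W : Type*} [AddCommGroup V] [Module F V] [AddCommGroup W] [Module F W]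
    [Module.Finite F V] [Module.Finite F W] (a : V →ₗ[F] V) (b : W →ₗ[F] W) :
    Module.finrank F (LinearMap.ker (a.prodMap b)) =
      Module.finrank F (LinearMap.ker a) + Module.finrank F (LinearMap.ker b) := by
  rw [← Module.finrank_prod]
  refine LinearEquiv.finrank_eq (LinearEquiv.symm ?_)
  refine
    { toFun := fun x => ⟨(x.1.1, x.2.1), by
        rw [LinearMap.mem_ker, LinearMap.prodMap_apply, LinearMap.mem_ker.1 x.1.2, LinearMap.mem_ker.1 x.2.2]
        rfl⟩
      map_add' := fun x y => rfl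
      map_smul' := fun c x => rfl
      invFun := fun x => (⟨x.1.1, by
          have h := LinearMap.mem_ker.1 x.2
          exact congrArg Prod.fst h⟩, ⟨x.1.2, by
          have h := LinearMap.mem_ker.1 x.2
          exact congrArg Prod.snd h⟩)
      left_inv := fun x => rfl
      right_inv := fun x => rfl }

theorem kd_jj (e : ((Fin k → K) × (Fin m → F)) ≃ₗ[F] (Fin n → F)) (A : GL (Fin k) K)
    (B : GL (Fin m) F) (g : F[X]) :
    kd (jj e (A, B)) g = Module.finrank F K * kd A (g.map (algebraMap F K)) + kd B g := by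
  have hfin : Module.Finite F K := inferInstance
  have h1 : aeval (Matrix.toLin' (jj e (A, B)).1) g = (e : _ →ₗ[F] _) ∘ₗ
      ((aeval ((Matrix.toLin' A.1).restrictScalars F) g).prodMap (aeval (Matrix.toLin' B.1) g)) ∘ₗ
        (e.symm : _ →ₗ[F] _) := by
    have h2 : aeval (((Matrix.toLin' A.1).restrictScalars F).prodMap (Matrix.toLin' B.1)) g =
        (aeval ((Matrix.toLin' A.1).restrictScalars F) g).prodMap (aeval (Matrix.toLin' B.1) g) := by
      have h3 := Polynomial.aeval_algHom_apply (LinearMap.prodMapAlgHom F (Fin k → K) (Fin m → F))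
        ((Matrix.toLin' A.1).restrictScalars F, Matrix.toLin' B.1) g
      rw [Polynomial.aeval_prod_apply] at h3
      exact h3
    rw [← h2, toLin_jj]
    have h4 := Polynomial.aeval_algHom_apply (LinearEquiv.conjAlgEquiv F e).toAlgHom
      (((Matrix.toLin' A.1).restrictScalars F).prodMap (Matrix.toLin' B.1)) g
    have h5 : ∀ f : Module.End F ((Fin k → K) × (Fin m → F)), (LinearEquiv.conjAlgEquiv F e).toAlgHom f =
        (e : ((Fin k → K) × (Fin m → F)) →ₗ[F] (Fin n → F)) ∘ₗ f ∘ₗ
          (e.symm : (Fin n → F) →ₗ[F] ((Fin k → K) × (Fin m → F))) := fun f => by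
      ext1; ext1; rfl
    rw [h5, h5] at h4
    exact h4
  rw [kd, h1]
  obtain ⟨P, hP⟩ : ∃ P : (Fin k → K) × (Fin m → F) →ₗ[F] (Fin k → K) × (Fin m → F),
    P = (aeval ((Matrix.toLin' A.1).restrictScalars F) g).prodMap (aeval (Matrix.toLin' B.1) g) := ⟨_, rfl⟩
  rw [← hP]
  have h4 : Module.finrank F (LinearMap.ker ((e : ((Fin k → K) × (Fin m → F)) →ₗ[F] (Fin n → F)) ∘ₗ P ∘ₗ
        (e.symm : (Fin n → F) →ₗ[F] ((Fin k → K) × (Fin m → F))))) = Module.finrank F (LinearMap.ker P) := by
    refine LinearEquiv.finrank_eq (LinearEquiv.symm ?_)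
    refine e.submoduleMap (LinearMap.ker P) |>.trans (LinearEquiv.ofEq _ _ ?_)
    ext x
    obtain ⟨y, rfl⟩ := e.surjective x
    rw [LinearMap.mem_ker]
    show _ ↔ e (P (e.symm (e y))) = 0
    rw [e.symm_apply_apply, LinearEquiv.map_eq_zero_iff]
    constructor
    · rintro ⟨z, hz, hzy⟩
      rw [← e.injective hzy]
      exact hz
    · intro h
      exact ⟨y, h, rfl⟩
  rw [h4, hP, finrank_ker_prod]
  congr 1
  have h5 : aeval ((Matrix.toLin' A.1).restrictScalars F) g =
      (aeval (Matrix.toLin' A.1) (g.map (algebraMap F K))).restrictScalars F := by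
    rw [Polynomial.aeval_map_algebraMap]
    exact Polynomial.aeval_algHom_apply (resE (F := F) (K := K) (Fin k → K)) (Matrix.toLin' A.1) g
  rw [h5, kd, LinearMap.ker_restrictScalars, Module.finrank_mul_finrank]
  exact LinearEquiv.finrank_eq ((Submodule.restrictScalarsEquiv F K _ _).restrictScalars F)

theorem scl_mulVec (z : Kˣ) (v : Fin k → K) : (scl k z).1.mulVec v = (z : K) • v := by
  show (Matrix.scalar (Fin k) (z : K)).mulVec v = _
  rw [Matrix.scalar_apply]
  funext i
  rw [Matrix.mulVec_diagonal]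
  rfl

/-- matrices of injective endomorphisms -/
theorem exists_gl {L : Type u} [Field L] {r : ℕ} (a : (Fin r → L) →ₗ[L] (Fin r → L)) (ha : Function.Injective a) :
    ∃ A : GL (Fin r) L, ∀ v, A.1.mulVec v = a v := by
  refine ⟨(glE L r).symm (LinearEquiv.ofInjectiveEndo a ha), fun v => ?_⟩
  rw [← glE_apply, MulEquiv.apply_symm_apply]
  rfl

theorem centralizer_jj (e : ((Fin k → K) × (Fin m → F)) ≃ₗ[F] (Fin n → F)) (z : Kˣ) (hz1 : z ≠ 1)
    (hzK : Algebra.adjoin F {(z : K)} = ⊤) :
    (jj e).range = Subgroup.centralizer ({jj e (scl k z, 1)} : Set (GL (Fin n) F)) := by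
  ext x
  rw [Subgroup.mem_centralizer_singleton_iff]
  constructor
  · rintro ⟨⟨A, B⟩, rfl⟩
    rw [← map_mul, ← map_mul]
    congr 1
    refine Prod.ext ?_ ?_
    · apply ext_mulVec
      intro v
      show ((A * scl k z : GL (Fin k) K)).1.mulVec v = ((scl k z * A : GL (Fin k) K)).1.mulVec v
      rw [Units.val_mul, Units.val_mul, ← Matrix.mulVec_mulVec, ← Matrix.mulVec_mulVec, scl_mulVec, scl_mulVec,
        Matrix.mulVec_smul]
    · show B * 1 = 1 * B
      rw [mul_one, one_mul]
  · intro hx
    have hz0 : (z : K) - 1 ≠ 0 := fun h => hz1 (Units.ext (sub_eq_zero.1 h))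
    let U : ((Fin k → K) × (Fin m → F)) →ₗ[F] ((Fin k → K) × (Fin m → F)) :=
      (e.symm : (Fin n → F) →ₗ[F] ((Fin k → K) × (Fin m → F))) ∘ₗ (Matrix.toLin' x.1) ∘ₗ
        (e : ((Fin k → K) × (Fin m → F)) →ₗ[F] (Fin n → F))
    have hUe : ∀ y, e (U y) = x.1.mulVec (e y) := fun y => by
      show e (e.symm (Matrix.toLin' x.1 (e y))) = _
      rw [e.apply_symm_apply, Matrix.toLin'_apply]
    have hUinj : ∀ y, U y = 0 → y = 0 := by
      intro y hy
      have h1 := hUe y
      rw [hy, map_zero] at h1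
      have h2 : (x⁻¹).1.mulVec (x.1.mulVec (e y)) = e y := by
        rw [Matrix.mulVec_mulVec, ← Units.val_mul, inv_mul_cancel, Units.val_one, Matrix.one_mulVec]
      rw [← h1, Matrix.mulVec_zero] at h2
      exact (LinearEquiv.map_eq_zero_iff e).1 h2.symm
    have hU : ∀ v w, U ((z : K) • v, w) = ((z : K) • (U (v, w)).1, (U (v, w)).2) := by
      intro v w
      apply e.injective
      have h1 : ∀ v w, e ((z : K) • v, w) = (jj e (scl k z, 1)).1.mulVec (e (v, w)) := by
        intro v w
        rw [jj_mulVec, scl_mulVec, Units.val_one, Matrix.one_mulVec]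
      rw [hUe, h1, h1, Matrix.mulVec_mulVec, ← Units.val_mul, hx, Units.val_mul, ← Matrix.mulVec_mulVec,
        ← hUe]
    -- the components
    have hb : ∀ v, (U (v, 0)).2 = 0 := by
      intro v
      have h1 := hU (((z : K) - 1)⁻¹ • v) 0
      have h2 : U (v, 0) = U ((z : K) • (((z : K) - 1)⁻¹ • v), 0) - U (((z : K) - 1)⁻¹ • v, 0) := by
        rw [← map_sub, Prod.mk_sub_mk, sub_zero]
        congr 2
        have h3 : (z : K) • (((z : K) - 1)⁻¹ • v) - (((z : K) - 1)⁻¹ • v) =
            ((z : K) - 1) • (((z : K) - 1)⁻¹ • v) := by rw [sub_smul ((z : K)) 1, one_smul]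
        rw [h3, smul_smul, mul_inv_cancel₀ hz0, one_smul]
      rw [h2, h1]
      show (U (((z : K) - 1)⁻¹ • v, 0)).2 - (U (((z : K) - 1)⁻¹ • v, 0)).2 = 0
      rw [sub_self]
    have hc : ∀ w, (U (0, w)).1 = 0 := by
      intro w
      have h1 := hU 0 w
      rw [smul_zero] at h1
      have h2 : (U (0, w)).1 = (z : K) • (U (0, w)).1 := congrArg Prod.fst h1
      have h3 : ((z : K) - 1) • (U (0, w)).1 = 0 := by rw [sub_smul, one_smul, ← h2, sub_self]
      exact (smul_eq_zero.1 h3).resolve_left hz0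
    have hK : ∀ (c : K) (v : Fin k → K), (U (c • v, 0)).1 = c • (U (v, 0)).1 := by
      intro c
      have hc' : c ∈ Algebra.adjoin F {(z : K)} := by rw [hzK]; trivial
      induction hc' using Algebra.adjoin_induction with
      | mem c hc =>
        intro v
        rw [Set.mem_singleton_iff.1 hc, hU]
      | algebraMap r =>
        intro v
        have h1 : (((algebraMap F K r) • v, 0) : (Fin k → K) × (Fin m → F)) = r • (v, 0) := by
          rw [Prod.smul_mk, smul_zero, algebraMap_smul]
        rw [h1, map_smul, Prod.smul_fst, algebraMap_smul]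
      | add c d _ _ hc hd =>
        intro v
        have h1 : (((c + d) • v, 0) : (Fin k → K) × (Fin m → F)) = (c • v, 0) + (d • v, 0) := by
          rw [Prod.mk_add_mk, add_zero, add_smul]
        rw [h1, map_add, Prod.fst_add, hc, hd, add_smul]
      | mul c d _ _ hc hd =>
        intro v
        rw [mul_smul, hc, hd, mul_smul]
    let a : (Fin k → K) →ₗ[K] (Fin k → K) :=
      { toFun := fun v => (U (v, 0)).1
        map_add' := fun v v' => by
          have h1 : ((v + v', 0) : (Fin k → K) × (Fin m → F)) = (v, 0) + (v', 0) := by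
            rw [Prod.mk_add_mk, add_zero]
          rw [h1, map_add, Prod.fst_add]
        map_smul' := fun c v => hK c v }
    let d : (Fin m → F) →ₗ[F] (Fin m → F) :=
      { toFun := fun w => (U (0, w)).2
        map_add' := fun v v' => by
          have h1 : ((0, v + v') : (Fin k → K) × (Fin m → F)) = (0, v) + (0, v') := by
            rw [Prod.mk_add_mk, add_zero]
          rw [h1, map_add, Prod.snd_add]
        map_smul' := fun c v => by
          have h1 : ((0, c • v) : (Fin k → K) × (Fin m → F)) = c • (0, v) := by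
            rw [Prod.smul_mk, smul_zero]
          rw [h1, map_smul, Prod.smul_snd]; rfl }
    have ha : Function.Injective a := by
      rw [injective_iff_map_eq_zero]
      intro v hv
      have h1 : U (v, 0) = 0 := Prod.ext hv (hb v)
      exact congrArg Prod.fst (hUinj _ h1)
    have hd : Function.Injective d := by
      rw [injective_iff_map_eq_zero]
      intro w hw
      have h1 : U (0, w) = 0 := Prod.ext (hc w) hw
      exact congrArg Prod.snd (hUinj _ h1)
    obtain ⟨A, hA⟩ := exists_gl a ha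
    obtain ⟨B, hB⟩ := exists_gl d hd
    refine ⟨(A, B), ?_⟩
    apply ext_mulVec
    intro y
    obtain ⟨⟨v, w⟩, rfl⟩ := e.surjective y
    rw [jj_mulVec, ← hUe, hA, hB]
    congr 1
    have h1 : ((v, w) : (Fin k → K) × (Fin m → F)) = (v, 0) + (0, w) := by
      rw [Prod.mk_add_mk, add_zero, zero_add]
    rw [h1, map_add]
    refine Prod.ext ?_ ?_
    · rw [Prod.fst_add, hc, add_zero]; rfl
    · rw [Prod.snd_add, hb, zero_add]; rfl

end Cfsg.Agent.H901.Sl
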